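import Mathlib
import Cfsg.Agent.Gold.LyonsNumA

/-! Numerical part of Lyons' theorem: the data and the kernel computations. -/

namespace Cfsg.Agent.Gold.LN

open Row

/-- The canonical rows that fit into the Gram matrix, with their weight vectors. -/
def TT : List (Row × List ℕ) :=
  [(⟨0, 0, 0, 0, -2, -1⟩, [0, 4, 4, 4, 16, 16, 4, 0, 16, 4, 16, 16, 16, 16]),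
   (⟨0, 1, -1, -1, -1, -1⟩, [0, 4, 4, 4, 16, 16, 4, 0, 16, 4, 16, 16, 16, 16]),
   (⟨1, 1, -1, 0, 0, 1⟩, [4, 4, 0, 4, 16, 64, 4, 4, 4, 16, 8, 24, 8, 24]),
   (⟨1, 1, 0, -1, 0, 1⟩, [4, 4, 0, 4, 0, 64, 4, 4, 4, 16, 8, 24, 16, 24]),
   (⟨1, 1, 0, 0, -1, 1⟩, [4, 4, 0, 4, 16, 64, 4, 4, 4, 16, 8, 24, 8, 24]),
   (⟨-1, 1, -1, 0, 0, 0⟩, [4, 0, 4, 0, 16, 64, 16, 4, 4, 4, 8, 24, 8, 8]),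
   (⟨-1, 1, 0, -1, 0, 0⟩, [4, 0, 4, 0, 0, 64, 16, 4, 4, 4, 8, 24, 16, 8]),
   (⟨-1, 1, 0, 0, -1, 0⟩, [4, 0, 4, 0, 16, 64, 16, 4, 4, 4, 8, 24, 8, 8]),
   (⟨0, 1, -1, 0, 0, 1⟩, [0, 4, 4, 4, 16, 0, 4, 16, 0, 4, 8, 8, 8, 24]),
   (⟨0, 1, 0, -1, 0, 1⟩, [0, 4, 4, 4, 0, 0, 4, 16, 0, 4, 8, 8, 16, 24]),
   (⟨0, 1, 0, 0, -1, 1⟩, [0, 4, 4, 4, 16, 0, 4, 16, 0, 4, 8, 8, 8, 24]),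
   (⟨-1, 0, 0, 0, -1, -1⟩, [4, 4, 0, 0, 4, 36, 16, 0, 0, 4, 4, 12, 4, 12]),
   (⟨0, 0, 0, -1, -1, -1⟩, [0, 4, 4, 4, 0, 16, 4, 0, 16, 4, 8, 8, 8, 8]),
   (⟨-1, 0, -1, 0, -1, 0⟩, [2, 0, 2, 8, 8, 8, 32, 18, 2, 2, 4, 4, 0, 4]),
   (⟨-2, 0, 0, 0, 0, 1⟩, [4, 1, 9, 1, 0, 64, 25, 16, 4, 1, 0, 16, 0, 4]),
   (⟨1, 0, 0, 0, 0, 3⟩, [1, 9, 4, 9, 0, 16, 1, 25, 1, 16, 0, 4, 0, 36]),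
   (⟨-1, 0, -1, 0, -1, -2⟩, [2, 8, 2, 0, 8, 8, 8, 2, 2, 2, 4, 4, 0, 20]),
   (⟨0, 1, 0, 1, 0, 2⟩, [0, 8, 8, 0, 8, 8, 0, 8, 8, 0, 4, 4, 0, 20]),
   (⟨-1, 0, 0, 0, 0, 2⟩, [1, 4, 9, 4, 0, 16, 16, 25, 1, 1, 0, 4, 0, 16]),
   (⟨0, 1, 0, 0, 0, 1⟩, [0, 4, 4, 0, 4, 4, 0, 4, 4, 0, 4, 4, 4, 12]),
   (⟨1, -1, -1, -1, -1, -2⟩, [1, 4, 9, 4, 0, 64, 0, 1, 25, 9, 4, 16, 0, 4]),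
   (⟨2, 0, 0, 0, 0, 2⟩, [4, 4, 0, 4, 0, 64, 4, 4, 4, 16, 0, 16, 0, 16]),
   (⟨-1, 0, -1, 0, -1, -1⟩, [2, 2, 0, 2, 8, 8, 18, 2, 2, 0, 4, 4, 0, 4]),
   (⟨-2, -1, -1, -1, -1, -3⟩, [4, 9, 1, 1, 0, 16, 25, 0, 4, 1, 4, 4, 0, 16]),
   (⟨1, -1, -1, -1, -1, -1⟩, [1, 1, 4, 9, 0, 64, 1, 1, 25, 16, 4, 16, 0, 0]),
   (⟨-2, 0, 0, 0, 0, 0⟩, [4, 0, 4, 0, 0, 64, 16, 4, 4, 4, 0, 16, 0, 0]),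
   (⟨0, 0, -1, 0, -1, 0⟩, [0, 0, 0, 8, 8, 8, 8, 8, 8, 8, 4, 4, 0, 4]),
   (⟨0, 0, 0, 0, -1, 0⟩, [0, 0, 0, 4, 4, 4, 4, 4, 4, 4, 4, 4, 4, 4]),
   (⟨-2, 0, 0, 0, 0, -1⟩, [4, 1, 1, 1, 0, 64, 9, 0, 4, 9, 0, 16, 0, 4]),
   (⟨0, 0, -1, 0, -1, -1⟩, [0, 2, 2, 2, 8, 8, 2, 0, 8, 2, 4, 4, 0, 4]),
   (⟨-1, -1, -1, -1, -1, -1⟩, [1, 1, 0, 9, 0, 0, 25, 9, 9, 4, 4, 0, 0, 0]),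
   (⟨0, -1, -1, -1, -1, -3⟩, [0, 9, 9, 1, 0, 16, 1, 4, 16, 1, 4, 4, 0, 16]),
   (⟨-1, -1, -1, -1, -1, -3⟩, [1, 9, 4, 1, 0, 0, 9, 1, 9, 0, 4, 0, 0, 16]),
   (⟨0, -1, -1, -1, -1, -1⟩, [0, 1, 1, 9, 0, 16, 9, 4, 16, 9, 4, 4, 0, 0]),
   (⟨-1, -1, -1, -1, -1, -2⟩, [1, 4, 1, 4, 0, 0, 16, 1, 9, 1, 4, 0, 0, 4]),
   (⟨0, -1, -1, -1, -1, -2⟩, [0, 4, 4, 4, 0, 16, 4, 0, 16, 4, 4, 4, 0, 4]),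
   (⟨0, 0, 0, 0, 0, 2⟩, [0, 4, 4, 4, 0, 0, 4, 16, 0, 4, 0, 0, 0, 16]),
   (⟨1, 0, 0, 0, 0, 2⟩, [1, 4, 1, 4, 0, 16, 0, 9, 1, 9, 0, 4, 0, 16]),
   (⟨-1, 0, 0, 0, 0, 1⟩, [1, 1, 4, 1, 0, 16, 9, 9, 1, 0, 0, 4, 0, 4]),
   (⟨1, 0, 0, 0, 0, 1⟩, [1, 1, 0, 1, 0, 16, 1, 1, 1, 4, 0, 4, 0, 4]),
   (⟨-1, 0, 0, 0, 0, 0⟩, [1, 0, 1, 0, 0, 16, 4, 1, 1, 1, 0, 4, 0, 0]),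
   (⟨0, 0, 0, 0, 0, 1⟩, [0, 1, 1, 1, 0, 0, 1, 4, 0, 1, 0, 0, 0, 4])]

/-- Residual Gram data after removing the trivial row. -/
def W0 : List ℕ := [4, 15, 13, 15, 16, 64, 35, 28, 28, 17, 20, 28, 16, 48]

/-- The solutions with their branch-and-bound certificates. -/
def certs : List (List Row × Cert) :=
  [([⟨1, 0, 0, 0, 0, 1⟩, ⟨1, 0, 0, 0, 0, 1⟩, ⟨-1, 0, 0, 0, 0, 1⟩, ⟨0, 0, 0, 0, 0, 2⟩,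
    ⟨-1, -1, -1, -1, -1, -2⟩, ⟨0, 0, 0, 0, -2, -1⟩],
    (.sp 2 0 0 (.sp 2 105 169 (.sp 4 0 0 (.sp 3 0 0 (.lf 0 (-1)) (.sp 4 154 218 (.le (-2) 1 1)
    (.lf (-1) (-2)))) (.lf 0 (-1))) (.lf (-1) 0)) (.lf (-1) 0))),
   ([⟨0, 0, 0, 0, 0, 1⟩, ⟨0, 0, 0, 0, 0, 1⟩, ⟨-1, 0, 0, 0, 0, 0⟩, ⟨-1, 0, 0, 0, 0, 0⟩,
    ⟨1, 0, 0, 0, 0, 1⟩, ⟨0, 0, 0, 0, 0, 2⟩, ⟨-1, -1, -1, -1, -1, -2⟩, ⟨0, 0, 0, 0, -2, -1⟩],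
    (.lf (-1) 0)),
   ([⟨0, 0, 0, 0, 0, 1⟩, ⟨0, 0, 0, 0, 0, 1⟩, ⟨-1, 0, 0, 0, 0, 0⟩, ⟨-1, 0, 0, 0, 0, 1⟩,
    ⟨1, 0, 0, 0, 0, 2⟩, ⟨-1, -1, -1, -1, -1, -2⟩, ⟨0, 0, 0, 0, -2, -1⟩],
    (.sp 3 0 0 (.sp 3 169 233 (.sp 5 0 0 (.sp 4 0 0 (.lf (-1) (-2)) (.sp 6 0 0 (.le (-1) 0 1) (.sp
    5 154 218 (.sp 6 (-141) (-77) (.le 1 0 (-1)) (.sp 2 0 0 (.le 5 (-1) 0) (.lf (-1) (-4)))) (.lf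
    (-1) (-4))))) (.lf 0 (-1))) (.lf (-1) 0)) (.lf (-1) 0))),
   ([⟨0, 0, 0, 0, 0, 1⟩, ⟨0, 0, 0, 0, 0, 1⟩, ⟨0, 0, 0, 0, 0, 1⟩, ⟨0, 0, 0, 0, 0, 1⟩,
    ⟨1, 0, 0, 0, 0, 1⟩, ⟨1, 0, 0, 0, 0, 1⟩, ⟨-1, 0, 0, 0, 0, 1⟩, ⟨-1, -1, -1, -1, -1, -2⟩,
    ⟨0, 0, 0, 0, -2, -1⟩],
    (.lf (-1) (-2))),
   ([⟨0, 0, 0, 0, 0, 1⟩, ⟨0, 0, 0, 0, 0, 1⟩, ⟨0, 0, 0, 0, 0, 1⟩, ⟨0, 0, 0, 0, 0, 1⟩,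
    ⟨0, 0, 0, 0, 0, 1⟩, ⟨0, 0, 0, 0, 0, 1⟩, ⟨-1, 0, 0, 0, 0, 0⟩, ⟨-1, 0, 0, 0, 0, 0⟩,
    ⟨1, 0, 0, 0, 0, 1⟩, ⟨-1, -1, -1, -1, -1, -2⟩, ⟨0, 0, 0, 0, -2, -1⟩],
    (.lf (-1) 0)),
   ([⟨1, 0, 0, 0, 0, 1⟩, ⟨1, 0, 0, 0, 0, 1⟩, ⟨-1, 0, 0, 0, 0, 1⟩, ⟨0, 0, 0, 0, 0, 2⟩,
    ⟨-1, -1, -1, -1, -1, -2⟩, ⟨0, 1, -1, -1, -1, -1⟩],
    (.sp 2 0 0 (.sp 2 105 169 (.sp 4 0 0 (.sp 3 0 0 (.lf 0 (-1)) (.sp 4 154 218 (.le (-2) 1 1)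
    (.lf (-1) (-2)))) (.lf 0 (-1))) (.lf (-1) 0)) (.lf (-1) 0))),
   ([⟨0, 0, 0, 0, 0, 1⟩, ⟨0, 0, 0, 0, 0, 1⟩, ⟨-1, 0, 0, 0, 0, 0⟩, ⟨-1, 0, 0, 0, 0, 0⟩,
    ⟨1, 0, 0, 0, 0, 1⟩, ⟨0, 0, 0, 0, 0, 2⟩, ⟨-1, -1, -1, -1, -1, -2⟩, ⟨0, 1, -1, -1, -1, -1⟩],
    (.lf (-1) 0)),
   ([⟨0, 0, 0, 0, 0, 1⟩, ⟨0, 0, 0, 0, 0, 1⟩, ⟨-1, 0, 0, 0, 0, 0⟩, ⟨-1, 0, 0, 0, 0, 1⟩,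
    ⟨1, 0, 0, 0, 0, 2⟩, ⟨-1, -1, -1, -1, -1, -2⟩, ⟨0, 1, -1, -1, -1, -1⟩],
    (.sp 3 0 0 (.sp 3 169 233 (.sp 5 0 0 (.sp 4 0 0 (.lf (-1) (-2)) (.sp 6 0 0 (.le (-1) 0 1) (.sp
    5 154 218 (.sp 6 (-141) (-77) (.le 1 0 (-1)) (.sp 2 0 0 (.le 5 (-1) 0) (.lf (-1) (-4)))) (.lf
    (-1) (-4))))) (.lf 0 (-1))) (.lf (-1) 0)) (.lf (-1) 0))),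
   ([⟨0, 0, 0, 0, 0, 1⟩, ⟨0, 0, 0, 0, 0, 1⟩, ⟨0, 0, 0, 0, 0, 1⟩, ⟨0, 0, 0, 0, 0, 1⟩,
    ⟨1, 0, 0, 0, 0, 1⟩, ⟨1, 0, 0, 0, 0, 1⟩, ⟨-1, 0, 0, 0, 0, 1⟩, ⟨-1, -1, -1, -1, -1, -2⟩,
    ⟨0, 1, -1, -1, -1, -1⟩],
    (.lf (-1) (-2))),
   ([⟨0, 0, 0, 0, 0, 1⟩, ⟨0, 0, 0, 0, 0, 1⟩, ⟨0, 0, 0, 0, 0, 1⟩, ⟨0, 0, 0, 0, 0, 1⟩,
    ⟨0, 0, 0, 0, 0, 1⟩, ⟨0, 0, 0, 0, 0, 1⟩, ⟨-1, 0, 0, 0, 0, 0⟩, ⟨-1, 0, 0, 0, 0, 0⟩,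
    ⟨1, 0, 0, 0, 0, 1⟩, ⟨-1, -1, -1, -1, -1, -2⟩, ⟨0, 1, -1, -1, -1, -1⟩],
    (.lf (-1) 0)),
   ([⟨1, 0, 0, 0, 0, 1⟩, ⟨1, 0, 0, 0, 0, 1⟩, ⟨-1, 0, 0, 0, 0, 1⟩, ⟨-1, -1, -1, -1, -1, -2⟩,
    ⟨0, 0, 0, -1, -1, -1⟩, ⟨0, 1, -1, 0, 0, 1⟩],
    (.lf (-1) (-2))),
   ([⟨0, 0, 0, 0, 0, 1⟩, ⟨0, 0, 0, 0, 0, 1⟩, ⟨-1, 0, 0, 0, 0, 0⟩, ⟨-1, 0, 0, 0, 0, 0⟩,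
    ⟨1, 0, 0, 0, 0, 1⟩, ⟨-1, -1, -1, -1, -1, -2⟩, ⟨0, 0, 0, -1, -1, -1⟩, ⟨0, 1, -1, 0, 0, 1⟩],
    (.lf (-1) 0)),
   ([⟨0, 0, 0, 0, 0, 1⟩, ⟨0, 0, 0, 0, 0, 1⟩, ⟨-1, 0, 0, 0, 0, 0⟩, ⟨1, 0, 0, 0, 0, 1⟩,
    ⟨0, -1, -1, -1, -1, -2⟩, ⟨0, 0, -1, 0, -1, -1⟩, ⟨-1, 0, -1, 0, -1, -1⟩,
    ⟨0, 1, 0, -1, 0, 1⟩],
    (.sp 6 0 0 (.sp 6 103 167 (.sp 4 0 0 (.lf (-1) 0) (.sp 4 (-154) (-90) (.lf (-1) 0) (.sp 5 0 0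
    (.le (-1) 0 1) (.le 1 0 (-1))))) (.lf (-1) 0)) (.lf (-1) 0))),
   ([⟨-1, 0, 0, 0, 0, 0⟩, ⟨-1, 0, 0, 0, 0, 0⟩, ⟨-1, 0, 0, 0, 0, 0⟩, ⟨-1, -1, -1, -1, -1, -3⟩,
    ⟨0, 0, -1, 0, -1, -1⟩, ⟨0, 0, -1, 0, -1, 0⟩, ⟨0, 1, 0, -1, 0, 1⟩],
    (.sp 5 0 0 (.lf (-1) 0) (.sp 5 (-152) (-88) (.lf (-1) 0) (.sp 6 0 0 (.lf 0 (-1)) (.sp 3 0 0
    (.le 1 0 1) (.lf 0 (-1))))))),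
   ([⟨1, 0, 0, 0, 0, 1⟩, ⟨1, 0, 0, 0, 0, 1⟩, ⟨-1, 0, 0, 0, 0, 1⟩, ⟨-1, -1, -1, -1, -1, -2⟩,
    ⟨0, 0, -1, 0, -1, -1⟩, ⟨0, 0, -1, 0, -1, -1⟩, ⟨0, 1, 0, -1, 0, 1⟩],
    (.lf (-1) (-2))),
   ([⟨0, 0, 0, 0, 0, 1⟩, ⟨0, 0, 0, 0, 0, 1⟩, ⟨-1, 0, 0, 0, 0, 0⟩, ⟨-1, 0, 0, 0, 0, 0⟩,
    ⟨1, 0, 0, 0, 0, 1⟩, ⟨-1, -1, -1, -1, -1, -2⟩, ⟨0, 0, -1, 0, -1, -1⟩, ⟨0, 0, -1, 0, -1, -1⟩,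
    ⟨0, 1, 0, -1, 0, 1⟩],
    (.lf (-1) 0)),
   ([⟨1, 0, 0, 0, 0, 1⟩, ⟨1, 0, 0, 0, 0, 1⟩, ⟨-1, 0, 0, 0, 0, 1⟩, ⟨-1, -1, -1, -1, -1, -2⟩,
    ⟨0, 0, 0, -1, -1, -1⟩, ⟨0, 1, 0, 0, -1, 1⟩],
    (.lf (-1) (-2))),
   ([⟨0, 0, 0, 0, 0, 1⟩, ⟨0, 0, 0, 0, 0, 1⟩, ⟨-1, 0, 0, 0, 0, 0⟩, ⟨-1, 0, 0, 0, 0, 0⟩,
    ⟨1, 0, 0, 0, 0, 1⟩, ⟨-1, -1, -1, -1, -1, -2⟩, ⟨0, 0, 0, -1, -1, -1⟩, ⟨0, 1, 0, 0, -1, 1⟩],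
    (.lf (-1) 0)),
   ([⟨0, 0, 0, 0, 0, 1⟩, ⟨0, 0, 0, 0, 0, 1⟩, ⟨-1, 0, 0, 0, 0, 0⟩, ⟨-1, 0, 0, 0, 0, 1⟩,
    ⟨0, 0, 0, 0, -1, 0⟩, ⟨0, 0, 0, 0, -1, 0⟩, ⟨-1, 0, -1, 0, -1, -2⟩, ⟨0, 0, 0, -1, -1, -1⟩],
    (.lf (-1) (-2))),
   ([⟨-1, 0, 0, 0, 0, 0⟩, ⟨1, 0, 0, 0, 0, 1⟩, ⟨0, 0, 0, 0, 0, 2⟩, ⟨0, 0, 0, 0, -1, 0⟩,
    ⟨-1, 0, -1, 0, -1, -1⟩, ⟨0, 1, 0, 0, 0, 1⟩, ⟨0, 0, 0, -1, -1, -1⟩],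
    (.sp 4 0 0 (.sp 4 103 167 (.sp 2 0 0 (.lf (-1) (-1)) (.sp 6 0 0 (.lf (-1) 0) (.sp 6 (-141)
    (-77) (.lf (-1) 0) (.sp 0 0 0 (.sp 2 (-470) (-406) (.lf 0 (-1)) (.sp 3 0 0 (.lf (-1) 0) (.sp 0
    436 500 (.le 0 1 (-1)) (.lf (-1) 0)))) (.lf (-1) 0))))) (.lf (-1) 0)) (.lf (-1) 0))),
   ([⟨-1, 0, 0, 0, 0, 1⟩, ⟨1, 0, 0, 0, 0, 2⟩, ⟨0, 0, 0, 0, -1, 0⟩, ⟨-1, 0, -1, 0, -1, -1⟩,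
    ⟨0, 1, 0, 0, 0, 1⟩, ⟨0, 0, 0, -1, -1, -1⟩],
    (.sp 3 0 0 (.sp 3 103 167 (.sp 1 0 0 (.lf (-1) (-4)) (.sp 0 0 0 (.le 4 (-1) 1) (.sp 0 (-663)
    (-599) (.sp 1 (-458) (-394) (.lf (-1) (-1)) (.le (-4) 1 (-1))) (.lf (-1) 0)))) (.lf (-1)
    (-4))) (.lf (-1) (-1)))),
   ([⟨0, 0, 0, 0, 0, 1⟩, ⟨0, 0, 0, 0, 0, 1⟩, ⟨0, 0, 0, 0, 0, 1⟩, ⟨0, 0, 0, 0, 0, 1⟩,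
    ⟨-1, 0, 0, 0, 0, 0⟩, ⟨1, 0, 0, 0, 0, 1⟩, ⟨0, 0, 0, 0, -1, 0⟩, ⟨-1, 0, -1, 0, -1, -1⟩,
    ⟨0, 1, 0, 0, 0, 1⟩, ⟨0, 0, 0, -1, -1, -1⟩],
    (.sp 7 0 0 (.sp 7 103 167 (.sp 9 0 0 (.lf (-1) 0) (.sp 9 (-141) (-77) (.lf (-1) 0) (.sp 4 0 0
    (.sp 6 0 0 (.lf (-1) 0) (.sp 6 (-140) (-76) (.lf (-1) 0) (.sp 4 436 500 (.sp 4 116 180 (.lf 1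
    0) (.sp 8 0 0 (.le 1 0 (-1)) (.sp 8 (-191) (-127) (.le (-1) 0 1) (.sp 4 180 244 (.sp 5 0 0
    (.sp 5 257 321 (.lf (-1) 0) (.sp 5 385 449 (.lf (-1) 0) (.le (-5) 1 0))) (.lf 1 0)) (.lf (-1)
    0))))) (.lf (-1) 0)))) (.lf (-1) 0)))) (.lf (-1) 0)) (.lf (-1) 0))),
   ([⟨-1, 0, 0, 0, 0, 0⟩, ⟨1, 0, 0, 0, 0, 1⟩, ⟨1, 0, 0, 0, 0, 1⟩, ⟨-1, -1, -1, -1, -1, -1⟩,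
    ⟨0, 0, 0, 0, -1, 0⟩, ⟨0, 1, 0, 0, 0, 1⟩, ⟨0, 1, 0, 0, 0, 1⟩, ⟨0, 1, 0, 0, 0, 1⟩],
    (.lf (-1) 0)),
   ([⟨1, 0, 0, 0, 0, 1⟩, ⟨1, 0, 0, 0, 0, 1⟩, ⟨-1, 0, 0, 0, 0, 1⟩, ⟨-1, -1, -1, -1, -1, -2⟩,
    ⟨0, 0, 0, 0, -1, 0⟩, ⟨0, 0, 0, 0, -1, 0⟩, ⟨0, 1, 0, 0, 0, 1⟩, ⟨0, 1, 0, 0, 0, 1⟩],
    (.lf (-1) (-4))),
   ([⟨0, 0, 0, 0, 0, 1⟩, ⟨0, 0, 0, 0, 0, 1⟩, ⟨-1, 0, 0, 0, 0, 0⟩, ⟨-1, 0, 0, 0, 0, 0⟩,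
    ⟨1, 0, 0, 0, 0, 1⟩, ⟨-1, -1, -1, -1, -1, -2⟩, ⟨0, 0, 0, 0, -1, 0⟩, ⟨0, 0, 0, 0, -1, 0⟩,
    ⟨0, 1, 0, 0, 0, 1⟩, ⟨0, 1, 0, 0, 0, 1⟩],
    (.lf (-1) 0)),
   ([⟨-1, 0, 0, 0, 0, 0⟩, ⟨1, 0, 0, 0, 0, 1⟩, ⟨-1, 0, 0, 0, 0, 1⟩, ⟨-1, -1, -1, -1, -1, -3⟩,
    ⟨0, 0, 0, 0, -1, 0⟩, ⟨0, 0, 0, 0, -1, 0⟩, ⟨0, 0, 0, 0, -1, 0⟩, ⟨0, 1, 0, 0, 0, 1⟩],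
    (.lf 0 (-1))),
   ([⟨0, 0, 0, 0, 0, 1⟩, ⟨0, 0, 0, 0, 0, 1⟩, ⟨-1, 0, 0, 0, 0, 0⟩, ⟨-1, 0, 0, 0, 0, 0⟩,
    ⟨-1, 0, 0, 0, 0, 0⟩, ⟨-1, -1, -1, -1, -1, -3⟩, ⟨0, 0, 0, 0, -1, 0⟩, ⟨0, 0, 0, 0, -1, 0⟩,
    ⟨0, 0, 0, 0, -1, 0⟩, ⟨0, 1, 0, 0, 0, 1⟩],
    (.lf 0 (-1)))]

theorem go_certs : go certs 64 TT W0 [] = true := by decide +kernel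

theorem tt_wv : ∀ e ∈ TT, e.2 = e.1.wv := by decide +kernel

/-- Range of the coefficients `c`. -/
def rg2 : List ℤ := [-2, -1, 0, 1, 2]

/-- Range of the coefficient `a`. -/
def rg4 : List ℤ := [-4, -3, -2, -1, 0, 1, 2, 3, 4]

theorem box_aux : (rg2.all fun e0 => rg2.all fun e1 => rg2.all fun e2 => rg2.all fun e3 =>
    wE e0 e1 e2 e3 == 0 || rg2.all fun c0 => rg4.all fun a =>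
      decide (s ⟨c0, e0, e1, e2, e3, a⟩ ≤ 0) || !leL (wv ⟨c0, e0, e1, e2, e3, a⟩) W0 ||
        TT.any fun e => e.1.beq ⟨c0, e0, e1, e2, e3, a⟩) = true := by decide +kernel

theorem wE_aux : (rg2.all fun e0 => rg2.all fun e1 => rg2.all fun e2 => rg2.all fun e3 =>
    wE e0 e1 e2 e3 + wE e3 e0 e1 e2 + wE e2 e3 e0 e1 + wE e1 e2 e3 e0 == 4) = true := by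
  decide +kernel

theorem mem_rg2 {x : ℤ} (h : x ^ 2 ≤ 5) : x ∈ rg2 := by
  have h1 : x ≤ 2 := by nlinarith
  have h2 : -2 ≤ x := by nlinarith
  interval_cases x <;> simp [rg2]

theorem mem_rg4 {x : ℤ} (h : x ^ 2 ≤ 16) : x ∈ rg4 := by
  have h1 : x ≤ 4 := by nlinarith
  have h2 : -4 ≤ x := by nlinarith
  interval_cases x <;> simp [rg4]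

/-- The rows allowed by the diagonal of the Gram matrix. -/
def Box (r : Row) : Prop :=
  r.c0 ^ 2 ≤ 5 ∧ r.e0 ^ 2 ≤ 5 ∧ r.e1 ^ 2 ≤ 5 ∧ r.e2 ^ 2 ≤ 5 ∧ r.e3 ^ 2 ≤ 5 ∧ r.a ^ 2 ≤ 16

theorem Box.w_sum {r : Row} (h : Box r) : r.w + r.sh.w + r.sh.sh.w + r.sh.sh.sh.w = 4 := by
  have := wE_aux
  simp only [List.all_eq_true, beq_iff_eq] at this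
  exact this _ (mem_rg2 h.2.1) _ (mem_rg2 h.2.2.1) _ (mem_rg2 h.2.2.2.1) _ (mem_rg2 h.2.2.2.2.1)

theorem Box.mem_TT {r : Row} (h : Box r) (hw : r.w ≠ 0) (hs : 0 < r.s)
    (hW : ∀ k, r.wv.getD k 0 ≤ W0.getD k 0) : ∃ e ∈ TT, e.1 = r := by
  have := box_aux
  simp only [List.all_eq_true, Bool.or_eq_true, beq_iff_eq, decide_eq_true_eq, List.any_eq_true,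
    Bool.not_eq_true'] at this
  rcases this _ (mem_rg2 h.2.1) _ (mem_rg2 h.2.2.1) _ (mem_rg2 h.2.2.2.1) _
    (mem_rg2 h.2.2.2.2.1) with h1 | h1
  · exact absurd h1 hw
  · rcases h1 _ (mem_rg2 h.1) _ (mem_rg4 h.2.2.2.2.2) with (h2 | h2) | ⟨e, he, h2⟩
    · exact absurd h2 (not_le.2 hs)
    · rw [leL_of_le _ _ hW] at h2
      simp at h2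
    · exact ⟨e, he, eq_of_beq' h2⟩

theorem w_nonneg (r : Row) : 0 ≤ r.w := by
  unfold w wE
  split_ifs <;> norm_num

theorem not_good {l : List (Row × ℤ)} (hl : ∀ p ∈ l, Box p.1 ∧ p.1.w ≠ 0 ∧ 0 < p.1.s)
    (hW : ∀ k, (l.map fun p => p.1.wv.getD k 0).sum = W0.getD k 0) : ¬ Good l := by
  have := go_sound certs 64 TT W0 l [] go_certs tt_wv (fun p hp => ?_) hW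
  · simpa using this
  · refine (hl p hp).1.mem_TT (hl p hp).2.1 (hl p hp).2.2 fun k => ?_
    rw [← hW k]
    exact List.single_le_sum (fun _ _ => Nat.zero_le _) _ (List.mem_map_of_mem hp)

end Cfsg.Agent.Gold.LN
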